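import Cfsg.Agent.Lib.CosetEnum.HSK0.Check0
import Cfsg.Agent.Lib.CosetEnum.HSK0.Data

/-! Checks of the certificate. -/

set_option autoImplicit false
set_option maxRecDepth 20000
set_option Elab.async false

namespace Cfsg.Agent.Lib.CosetEnum.HSK0

open Cfsg.Agent.Lib.CosetEnum

theorem defs_ok : defsOK data 823 = true := by decide +kernel

theorem edges_part0 : allFrom 0 1 (edgeAt data 2139 1 table vert edge) = true := by decide +kernel

theorem edges_ok : edgesOK data 2139 1 table vert edge = true :=
  (allBelow_add (rfl : allBelow 0 (edgeAt data 2139 1 table vert edge) = true) edges_part0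
    (by omega : 0 + 1 = 1))

theorem perm_part0 : allFrom 0 1 (permAt letters.K letters.IV 1 table) = true := by decide +kernel

theorem perm_ok : permOK letters.K letters.IV 1 table = true :=
  (allBelow_add (rfl : allBelow 0 (permAt letters.K letters.IV 1 table) = true) perm_part0
    (by omega : 0 + 1 = 1))

theorem rels_part0 : allFrom 0 1 (relAt letters.K table letters.RL) = true := by decide +kernel

theorem rels_ok : relsOK letters.K 1 table letters.RL = true :=
  (allBelow_add (rfl : allBelow 0 (relAt letters.K table letters.RL) = true) rels_part0
    (by omega : 0 + 1 = 1))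

theorem reach_ok : reachOK letters.K 1 table parent = true := by decide +kernel

theorem letters_ok : letters.OK := by
  refine ⟨by decide +kernel, by decide +kernel, ?_, ?_, ?_⟩ <;> decide +kernel

theorem table_ok : TableOK letters 1 table where
  col := by decide +kernel
  symcol := by decide +kernel
  invol := by decide +kernel
  perm := perm_ok
  rel l hl i hi := relsOK_rel rels_ok hi hl

theorem sameRels : SameRels letters pres := Cfsg.Agent.Lib.ExactCover.sameRels _ _ _

/-- The enumerated index and action. -/
theorem enum : Enumerated letters
    pres
    (subOf letters _ subWords) 1 table :=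
  enumerated letters _
    sameRels
    letters_ok 1 table parent (by omega) table_ok reach_ok data 823 2139 rfl subWords
    (by decide +kernel)
    (fun φ hφ => hφ ▸ Letters.valid sameRels.1 letters_ok table_ok.col rfl rfl subWords (by decide +kernel) rfl rfl
      (by decide +kernel))
    (fun φ hV => (chunks_sound hV part0 part0_ok.1 part0_ok.2
      (fun i hi => good_defs defs_ok hi)))
    vert edge (by decide +kernel) edges_ok

end Cfsg.Agent.Lib.CosetEnum.HSK0
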